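import Groth.Agent.InjRepLib.Step
import Mathlib.Algebra.Homology.HomologicalComplex

/-!
# The resolution
-/

set_option autoImplicit false
set_option linter.style.haveILetI false

universe v u

open CategoryTheory CategoryTheory.Limits HomologicalComplex

noncomputable section

namespace Groth.Agent.InjRepLib

variable {A : Type u} [Category.{v} A] [Abelian A] {P Q : A → Prop}

variable (hP : Thick P Q) (K : CochainComplex A ℕ) (h0 : IsZero (K.X 0)) (hK : ∀ n, P (K.homology n))

/-- The short complex at degree `n + 1`. -/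
abbrev scAt (n : ℕ) : ShortComplex A := K.sc' n (n + 1) (n + 2)

include hP hK in
theorem hH (n : ℕ) : P (scAt K n).homology :=
  hK (n + 1) |> hP.iso (K.homologyIsoSc' n (n + 1) (n + 2) (by simp) (by simp))

include hP h0

/-- The first stage. -/
def stage₀ : Stage P (scAt K 0).f :=
  { C := K.X 0
    γ := 𝟙 _
    hC := hP.zero _ h0
    hR := hP.zero _ ((IsZero.iff_id_eq_zero _).2 (coequalizer.hom_ext (h0.eq_of_src _ _))) }

include hK

/-- All stages. -/
def stage : ∀ n : ℕ, Stage P (scAt K n).f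
  | 0 => stage₀ hP K h0
  | n + 1 =>
    let o := (nonempty_out hP (scAt K n) (stage n) (hH hP K hK n)).some
    { C := cokernel o.u
      γ := o.g ≫ cokernel.π o.u
      hC := hP.coker o.u (stage n).hC o.hP
      hR := nonempty_next hP (scAt K n) (stage n) o (hH hP K hK n) }

/-- The chosen output in degree `n + 1`. -/
def out (n : ℕ) : Out P Q (scAt K n) (stage hP K h0 hK n) :=
  (nonempty_out hP (scAt K n) (stage hP K h0 hK n) (hH hP K hK n)).some

/-- The terms. -/
def JX : ℕ → A
  | 0 => K.X 0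
  | n + 1 => (out hP K h0 hK n).J

/-- The projection onto the stage. -/
def proj : ∀ n : ℕ, JX hP K h0 hK n ⟶ (stage hP K h0 hK n).C
  | 0 => 𝟙 (K.X 0)
  | n + 1 => cokernel.π (out hP K h0 hK n).u

instance epi_proj : ∀ n, Epi (proj hP K h0 hK n)
  | 0 => inferInstanceAs (Epi (𝟙 (K.X 0)))
  | n + 1 => inferInstanceAs (Epi (cokernel.π (out hP K h0 hK n).u))

theorem d_comp (n : ℕ) :
    (proj hP K h0 hK n ≫ (out hP K h0 hK n).u) ≫ proj hP K h0 hK (n + 1) ≫ (out hP K h0 hK (n + 1)).u = 0 := by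
  rw [Category.assoc, ← Category.assoc (out hP K h0 hK n).u,
    show (out hP K h0 hK n).u ≫ proj hP K h0 hK (n + 1) = 0 from cokernel.condition _, zero_comp, comp_zero]

/-- The complex. -/
def J : CochainComplex A ℕ :=
  CochainComplex.of (JX hP K h0 hK) (fun n => proj hP K h0 hK n ≫ (out hP K h0 hK n).u) (d_comp hP K h0 hK)

/-- The components of the comparison map. -/
def fX : ∀ n : ℕ, K.X n ⟶ JX hP K h0 hK n
  | 0 => 𝟙 _
  | n + 1 => (out hP K h0 hK n).g

theorem fX_proj (n : ℕ) : fX hP K h0 hK n ≫ proj hP K h0 hK n = (stage hP K h0 hK n).γ := by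
  cases n with
  | zero => exact Category.comp_id _
  | succ n => rfl

theorem J_d (n : ℕ) : (J hP K h0 hK).d n (n + 1) = proj hP K h0 hK n ≫ (out hP K h0 hK n).u :=
  by simp [J, CochainComplex.of, CochainComplex.of.d]; rfl

/-- The comparison map. -/
def toJ : K ⟶ J hP K h0 hK where
  f := fX hP K h0 hK
  comm' i j (hij : i + 1 = j) := by
    subst hij
    rw [J_d]
    refine (Category.assoc _ _ _).symm.trans ?_
    exact (congrArg (· ≫ (out hP K h0 hK i).u) (fX_proj hP K h0 hK i)).trans (out hP K h0 hK i).comm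

theorem quasiIso_toJ : QuasiIso (toJ hP K h0 hK) := by
  rw [quasiIso_iff]
  rintro (_ | n) <;> rw [quasiIsoAt_iff_isIso_homologyMap]
  · have hz : IsZero ((J hP K h0 hK).X 0) := h0
    exact IsZero.isIso ((exactAt_iff_isZero_homology _ _).1 (ExactAt.of_isZero h0))
      ((exactAt_iff_isZero_homology _ _).1 (ExactAt.of_isZero hz)) _
  · haveI : Mono (homologyMap (toJ hP K h0 hK) (n + 1)) := by
      rw [mono_homologyMap_iff_up_to_refinements (i := n) (j := n + 1) (k := n + 2) (hi := by simp) (hk := by simp)]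
      intro T x hx y hxy
      exact (out hP K h0 hK n).mono x hx (y ≫ proj hP K h0 hK n) (hxy.trans (by rw [J_d]; exact (Category.assoc _ _ _).symm))
    haveI : Epi (homologyMap (toJ hP K h0 hK) (n + 1)) := by
      rw [epi_homologyMap_iff_up_to_refinements (i := n) (j := n + 1) (k := n + 2) (hi := by simp) (hk := by simp)]
      intro T y hy
      rw [J_d] at hy
      let y' : T ⟶ (out hP K h0 hK n).J := y
      obtain ⟨T₁, π₁, _, k, hk, hk'⟩ := (out hP K h0 hK (n + 1)).lift (y ≫ proj hP K h0 hK (n + 1))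
        ((Category.assoc _ _ _).trans hy)
      have h1 : (π₁ ≫ y' - k ≫ (out hP K h0 hK n).g) ≫ cokernel.π (out hP K h0 hK n).u = 0 := by
        rw [Preadditive.sub_comp, sub_eq_zero, Category.assoc, Category.assoc]
        exact hk'
      obtain ⟨T₂, π₂, _, c, hc⟩ :=
        (CokernelCofork.IsColimit.comp_π_eq_zero_iff_up_to_refinements (cokernelIsCokernel _) _).1 h1
      obtain ⟨T₃, π₃, _, c', hc'⟩ := surjective_up_to_refinements_of_epi (proj hP K h0 hK n) c
      refine ⟨T₃, π₃ ≫ π₂ ≫ π₁, inferInstance, π₃ ≫ π₂ ≫ k, by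
        rw [Category.assoc, Category.assoc]
        refine (congrArg (fun g => π₃ ≫ π₂ ≫ g) hk).trans ?_
        simp <;> rfl, c', ?_⟩
      show (π₃ ≫ π₂ ≫ π₁) ≫ y' = (π₃ ≫ π₂ ≫ k) ≫ (out hP K h0 hK n).g +
        (show T₃ ⟶ (out hP K h0 hK n).J from c' ≫ (J hP K h0 hK).d n (n + 1))
      rw [J_d, show c' ≫ proj hP K h0 hK n ≫ (out hP K h0 hK n).u = π₃ ≫ c ≫ (out hP K h0 hK n).u from
        (Category.assoc _ _ _).symm.trans ((congrArg (· ≫ _) hc'.symm).trans (Category.assoc _ _ _)), ← hc]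
      simp
    exact isIso_of_mono_of_epi _

theorem P_J : ∀ n, P ((J hP K h0 hK).X n)
  | 0 => hP.zero _ h0
  | n + 1 => (out hP K h0 hK n).hP

theorem Q_J : ∀ n, Q ((J hP K h0 hK).X n)
  | 0 => hP.zero' _ h0
  | n + 1 => (out hP K h0 hK n).inj

omit hP h0 hK in
/-- The terms are injective when the envelopes are. -/
theorem injective_J (hP : Thick P fun M => Injective M) (h0 : IsZero (K.X 0)) (hK : ∀ n, P (K.homology n)) (n : ℕ) :
    Injective ((J hP K h0 hK).X n) :=
  Q_J hP K h0 hK n

end Groth.Agent.InjRepLib
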