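import Groth.Agent.InjRepLib.Equiv
import Groth.Agent.DevissLib.Basic
import Groth.Agent.QCohLib.FTCrit
import Groth.Agent.QCohLib.Vanishing
import Groth.Agent.QCohLib.SerreCrit
import Groth.Agent.CohExtLib.Subobj
import Groth.Agent.DerLib.ExactHomology
import Groth.Agent.StabLib.CohExt
import Mathlib.CategoryTheory.Abelian.Subcategory

/-!
# Coherent modules inside quasi-coherent ones
-/

set_option autoImplicit false
set_option linter.style.haveILetI false
set_option backward.isDefEq.respectTransparency false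
set_option backward.isDefEq.respectTransparency.types false

universe u

open CategoryTheory CategoryTheory.Limits AlgebraicGeometry

noncomputable section

namespace Groth.Agent.InjRepLib

/-- Epimorphisms of quasi-coherent modules onto coherent ones restrict to coherent submodules. -/
theorem exists_coh_lift {X : Scheme.{u}} [IsNoetherian X] {M Y : X.Modules} [Coh.IsQCoh M] (π : M ⟶ Y) [Epi π]
    (hY : Coh.IsCoh Y) : ∃ (G : X.Modules) (j : G ⟶ M), Mono j ∧ Coh.IsCoh G ∧ Epi (j ≫ π) := by
  classical
  haveI := hY.1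
  obtain ⟨C, hC⟩ := CohExtLib.exists_affine_cover (X := X)
  have hgen : ∀ V : X.affineOpens, ∃ t : Finset Γ(M, V.1),
      Submodule.span Γ(X, V.1) ((fun s => π.app V.1 s) '' (t : Set Γ(M, V.1))) = ⊤ := by
    intro V
    haveI : Module.Finite Γ(X, V.1) Γ(Y, V.1) := QCohLib.finite_of_isFT hY.2 V.2
    obtain ⟨s, hs⟩ := Module.Finite.fg_top (R := Γ(X, V.1)) (M := Γ(Y, V.1))
    haveI : Coh.IsQCoh (kernel π) := QCohLib.isQCoh_kernel π
    have hsur : Function.Surjective (π.app V.1) :=
      QCohLib.app_surjective_of_affine (S := ShortComplex.mk (kernel.ι π) π (kernel.condition π))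
        { exact := ShortComplex.exact_of_f_is_kernel _ (kernelIsKernel π), mono_f := inferInstance, epi_g := ‹Epi π› } V.2
    choose l hl using hsur
    refine ⟨s.image l, ?_⟩
    rw [Finset.coe_image, ← Set.image_comp, ← hs]
    congr 1
    ext y
    simp [Function.comp, hl]
  choose t ht using hgen
  obtain ⟨G, j, hj, hG, hGft, hmem⟩ := QCohLib.exists_ft_through_finset (K := M)
    ((C.sigma t : Finset (Σ V : X.affineOpens, Γ(M, V.1)))) (fun a => a.1.1) (fun a => a.1.2) (fun a => a.2)
  haveI := hG
  refine ⟨G, j, hj, ⟨hG, hGft⟩, Preadditive.epi_of_cokernel_zero ?_⟩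
  refine CohExtLib.hom_eq_zero_of_cover _ (C := (C : Set X.affineOpens)) hC fun V hV s => ?_
  have hs : s ∈ LinearMap.range (QCohLib.appLin (j ≫ π) V.1) := by
    refine (Submodule.span_le.2 ?_ : Submodule.span Γ(X, V.1) _ ≤ _) ((ht V).ge (Submodule.mem_top : s ∈ _))
    rintro _ ⟨m, hm, rfl⟩
    obtain ⟨g, hg⟩ := hmem ⟨V, m⟩ (Finset.mem_sigma.2 ⟨hV, hm⟩)
    exact ⟨g, congrArg (π.app V.1) hg⟩
  obtain ⟨g, rfl⟩ := hs
  exact congrArg (fun φ : G ⟶ cokernel (j ≫ π) => φ.app V.1 g) (cokernel.condition (j ≫ π))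

variable (X : Scheme.{u}) [ObjectProperty.ContainsZero (fun M : X.Modules => Coh.IsQCoh M)]
  [ObjectProperty.IsClosedUnderKernels (fun M : X.Modules => Coh.IsQCoh M)]
  [ObjectProperty.IsClosedUnderCokernels (fun M : X.Modules => Coh.IsQCoh M)]
  [ObjectProperty.IsClosedUnderFiniteProducts (fun M : X.Modules => Coh.IsQCoh M)]

/-- Coherent objects are thick in quasi-coherent modules, and epimorphisms lift. -/
theorem coThick_coh [IsNoetherian X] :
    CoThick (A := ObjectProperty.FullSubcategory (fun M : X.Modules => Coh.IsQCoh M)) (fun M => Coh.IsCoh M.obj) := by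
  let P : ObjectProperty X.Modules := fun M => Coh.IsQCoh M
  haveI := P.preservesMonomorphisms_ι_of_isNormalEpiCategory
  haveI := P.preservesEpimorphisms_ι_of_isNormalMonoCategory
  haveI : ∀ {A B : P.FullSubcategory} (f : A ⟶ B), PreservesLimit (parallelPair f 0) P.ι := fun f => P.preservesKernels_ι f
  haveI : ∀ {A B : P.FullSubcategory} (f : A ⟶ B), PreservesColimit (parallelPair f 0) P.ι := fun f =>
    P.preservesCokernels_ι f
  haveI : PreservesFiniteLimits P.ι := Functor.preservesFiniteLimits_of_preservesKernels _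
  haveI : PreservesFiniteColimits P.ι := Functor.preservesFiniteColimits_of_preservesCokernels _
  refine { zero := fun M hM => DevissLib.isCoh_of_isZero (P.ι.map_isZero hM)
           iso := fun e h => QCohLib.isCoh_of_iso (P.ι.mapIso e) h
           ker := fun {M N} f hM _ => ?_
           ext := fun {S} hS h1 h3 => ?_
           lift := fun M Y π hπ hY => ?_ }
  · haveI : Mono (P.ι.map (kernel.ι f)) := inferInstance
    exact QCohLib.isCoh_of_mono (P.ι.map (kernel.ι f)) hM (kernel f).property
  · exact StabLib.isCoh_extension (hS.map_of_exact P.ι) h1 h3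
  · haveI : Coh.IsQCoh (P.ι.obj M) := M.property
    haveI : Epi (P.ι.map π) := inferInstance
    obtain ⟨G, j, hj, hG, he⟩ := exists_coh_lift (P.ι.map π) hY
    refine ⟨⟨G, hG.1⟩, ObjectProperty.homMk j, hG, P.ι.epi_of_epi_map ?_⟩
    exact he

end Groth.Agent.InjRepLib
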