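import Groth.Agent.InjRepLib.Left
import Mathlib.Algebra.Homology.DerivedCategory.Fractions
import Mathlib.CategoryTheory.Localization.CalculusOfFractions

/-!
# `D⁻` of a thick subcategory with lifting
-/

set_option autoImplicit false
set_option linter.style.haveILetI false
set_option backward.isDefEq.respectTransparency false
set_option backward.isDefEq.respectTransparency.types false

universe w w' v v' u u'

open CategoryTheory CategoryTheory.Limits HomologicalComplex

noncomputable section

namespace Groth.Agent.InjRepLib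

variable {A : Type u} [Category.{v} A] [Abelian A] {B : Type u'} [Category.{v'} B] [Abelian B]
  (G : B ⥤ A) [G.Additive] [G.Full] [G.Faithful]

/-- Fully faithful functors reflect homotopies. -/
def descHomotopy {C D : CochainComplex B ℤ} (f g : C ⟶ D)
    (H : Homotopy ((G.mapHomologicalComplex _).map f) ((G.mapHomologicalComplex _).map g)) : Homotopy f g where
  hom i j := G.preimage (H.hom i j)
  zero i j h := G.map_injective (by rw [G.map_preimage, H.zero i j h, G.map_zero])
  comm i := G.map_injective (by
    refine (H.comm i).trans ?_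
    simp only [dNext_eq _ (show (ComplexShape.up ℤ).Rel i (i + 1) by simp),
      prevD_eq _ (show (ComplexShape.up ℤ).Rel (i - 1) i by simp), G.map_add, G.map_comp, G.map_preimage]
    rfl)

theorem exists_map_eq {C D : CochainComplex B ℤ}
    (k : (G.mapHomologicalComplex _).obj C ⟶ (G.mapHomologicalComplex _).obj D) :
    ∃ f : C ⟶ D, (G.mapHomologicalComplex _).map f = k :=
  ⟨{ f := fun i => G.preimage (k.f i)
     comm' := fun i j h => G.map_injective (by simpa using k.comm i j) },
    HomologicalComplex.hom_ext _ _ fun i => G.map_preimage _⟩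

theorem exists_complex {P : A → Prop} (hess : ∀ M, P M → ∃ b, Nonempty (G.obj b ≅ M)) (J : CochainComplex A ℤ)
    (hJ : ∀ n, P (J.X n)) : ∃ C : CochainComplex B ℤ, Nonempty ((G.mapHomologicalComplex _).obj C ≅ J) := by
  choose b hb using fun n => hess _ (hJ n)
  let e := fun n => (hb n).some
  let C : CochainComplex B ℤ :=
    { X := b
      d := fun i j => G.preimage ((e i).hom ≫ J.d i j ≫ (e j).inv)
      shape := fun i j h => G.map_injective (by rw [G.map_preimage, J.shape i j h]; simp)
      d_comp_d' := fun i j k _ _ => G.map_injective (by simp) }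
  exact ⟨C, ⟨HomologicalComplex.Hom.isoOfComponents e (fun i j _ => by simp [C])⟩⟩

variable [PreservesFiniteLimits G] [PreservesFiniteColimits G] {P : A → Prop} (hc : CoThick P)
  (hP : ∀ b, P (G.obj b)) (hess : ∀ M, P M → ∃ b, Nonempty (G.obj b ≅ M))

include hc hess in
theorem exists_lift_model (K : CochainComplex A ℤ) (b : ℤ) [K.IsStrictlyLE b] (hK : ∀ n, P (K.homology n)) :
    ∃ (C : CochainComplex B ℤ) (φ : (G.mapHomologicalComplex _).obj C ⟶ K), QuasiIso φ ∧
      CochainComplex.IsStrictlyLE C (b + 1) := by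
  obtain ⟨J, φ, hφ, hJ, hJX⟩ := exists_left_model hc K b hK
  obtain ⟨C, ⟨e⟩⟩ := exists_complex G hess J hJX
  refine ⟨C, e.hom ≫ φ, inferInstance, (CochainComplex.isStrictlyLE_iff _ _).2 fun i hi => ?_⟩
  refine (IsZero.iff_id_eq_zero _).2 (G.map_injective ?_)
  rw [G.map_id, G.map_zero]
  exact ((J.isZero_of_isStrictlyLE (b + 1) i hi).of_iso ((HomologicalComplex.eval A _ i).mapIso e)).eq_of_src _ _

include hc hP in
theorem P_homology_map (C : CochainComplex B ℤ) (n : ℤ) :
    P (((G.mapHomologicalComplex _).obj C).homology n) :=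
  hc.iso ((C.sc n).mapHomologyIso G).symm (hP _)

variable [HasDerivedCategory.{w} A] [HasDerivedCategory.{w'} B]

theorem map_Q_map {C D : CochainComplex B ℤ} (g : C ⟶ D) :
    G.mapDerivedCategory.map (DerivedCategory.Q.map g) =
      (G.mapDerivedCategoryFactors.app C).hom ≫ DerivedCategory.Q.map ((G.mapHomologicalComplex _).map g) ≫
        (G.mapDerivedCategoryFactors.app D).inv := by
  rw [← Category.assoc]
  exact (Iso.eq_comp_inv (G.mapDerivedCategoryFactors.app _)).2 (G.mapDerivedCategoryFactors.hom.naturality g)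

include hc hP hess in
theorem bijective_of_le (M N : DerivedCategory B) (b : ℤ) (hM : M.IsLE b) :
    Function.Bijective (fun φ : M ⟶ N => G.mapDerivedCategory.map φ) := by
  obtain ⟨C, _, ⟨eM⟩⟩ := M.exists_iso_Q_obj_of_isLE b
  let D := DerivedCategory.Q.objPreimage N
  let eN : DerivedCategory.Q.obj D ≅ N := DerivedCategory.Q.objObjPreimageIso N
  let GC := G.mapHomologicalComplex (ComplexShape.up ℤ)
  have hGC : ∀ C : CochainComplex B ℤ, ∀ c : ℤ, C.IsStrictlyLE c → CochainComplex.IsStrictlyLE (GC.obj C) c :=
    fun C c hC => (CochainComplex.isStrictlyLE_iff _ _).2 fun i hi => G.map_isZero (C.isZero_of_isStrictlyLE c i hi)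
  refine ⟨fun f g h => ?_, fun h => ?_⟩
  · suffices key : ∀ a : DerivedCategory.Q.obj C ⟶ DerivedCategory.Q.obj D, G.mapDerivedCategory.map a = 0 → a = 0 by
      have h' := key (eM.inv ≫ (f - g) ≫ eN.inv) (by
        rw [Functor.map_comp, Functor.map_comp, Functor.map_sub, show G.mapDerivedCategory.map f = G.mapDerivedCategory.map g from h,
          sub_self, zero_comp, comp_zero])
      rw [← sub_eq_zero]
      exact (cancel_mono eN.inv).1 ((cancel_epi eM.inv).1 (h'.trans (by simp)))
    intro a ha
    obtain ⟨C', hC', s, hs, k, rfl⟩ := DerivedCategory.right_fac_of_isStrictlyLE a b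
    rw [Functor.map_comp, Functor.map_inv, IsIso.inv_comp_eq, comp_zero, map_Q_map] at ha
    replace ha : DerivedCategory.Q.map (GC.map k) = 0 :=
      (cancel_mono (G.mapDerivedCategoryFactors.app D).inv).1
        ((cancel_epi (G.mapDerivedCategoryFactors.app C').hom).1 (ha.trans (by simp)))
    obtain ⟨T, t, ht, hT⟩ := (MorphismProperty.map_eq_iff_precomp DerivedCategory.Qh
      (HomotopyCategory.quasiIso A (ComplexShape.up ℤ)) ((HomotopyCategory.quotient _ _).map (GC.map k)) 0).1 (by
        have hn := (DerivedCategory.quotientCompQhIso A).hom.naturality (GC.map k)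
        rw [Functor.map_zero]
        exact (cancel_mono ((DerivedCategory.quotientCompQhIso A).hom.app _)).1 (hn.trans (by simp [ha])))
    obtain ⟨T, rfl⟩ := HomotopyCategory.quotient_obj_surjective T
    obtain ⟨t, rfl⟩ := (HomotopyCategory.quotient _ _).map_surjective t
    rw [HomotopyCategory.quotient_map_mem_quasiIso_iff, HomologicalComplex.mem_quasiIso_iff] at ht
    haveI := ht
    haveI := hGC C' b hC'
    haveI : CochainComplex.IsLE T b := (CochainComplex.isLE_iff _ _).2 fun i hi => (HomologicalComplex.exactAt_iff_isZero_homology _ _).2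
      (((HomologicalComplex.exactAt_iff_isZero_homology _ _).1 (CochainComplex.exactAt_of_isLE (GC.obj C') b i hi)).of_iso
        (isoOfQuasiIsoAt t i))
    let t' := CochainComplex.ιTruncLE T b ≫ t
    haveI : QuasiIso t' := inferInstanceAs (QuasiIso (CochainComplex.ιTruncLE T b ≫ t))
    obtain ⟨C'', φ, hφ, _⟩ := exists_lift_model G hc hess (CochainComplex.truncLE T b) b (fun n =>
      hc.iso (isoOfQuasiIsoAt t' n).symm (P_homology_map G hc hP C' n))
    obtain ⟨u, hu⟩ := exists_map_eq G (φ ≫ t')
    haveI : QuasiIso u := by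
      rw [← HomologicalComplex.quasiIso_map_iff_of_preservesHomology u G, hu]
      infer_instance
    have h0 : (HomotopyCategory.quotient _ _).map (GC.map (u ≫ k)) = (HomotopyCategory.quotient _ _).map 0 := by
      rw [GC.map_comp, hu, Functor.map_comp, Functor.map_comp, Functor.map_comp, Category.assoc, Category.assoc, hT]
      simp
    have h1 := DerivedCategory.Q_map_eq_of_homotopy _
      (descHomotopy G (u ≫ k) 0 ((HomotopyCategory.homotopyOfEq _ _ h0).trans (Homotopy.ofEq (GC.map_zero _ _).symm)))
    rw [Functor.map_comp, Functor.map_zero, ← comp_zero (f := DerivedCategory.Q.map u), cancel_epi] at h1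
    rw [h1, comp_zero]
  · let fac := fun C : CochainComplex B ℤ => G.mapDerivedCategoryFactors.app C
    haveI := hGC C b inferInstance
    obtain ⟨K, hK, s, hs, k, hk⟩ := DerivedCategory.right_fac_of_isStrictlyLE
      ((fac C).inv ≫ (G.mapDerivedCategory.map eM.inv ≫ h ≫ G.mapDerivedCategory.map eN.inv) ≫ (fac D).hom) b
    haveI : QuasiIso s := (DerivedCategory.isIso_Q_map_iff_quasiIso _ s).1 hs
    obtain ⟨C', φ, hφ, _⟩ := exists_lift_model G hc hess K b (fun n =>
      hc.iso (isoOfQuasiIsoAt s n).symm (P_homology_map G hc hP C n))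
    obtain ⟨u, hu⟩ := exists_map_eq G (φ ≫ s)
    obtain ⟨k', hk'⟩ := exists_map_eq G (φ ≫ k)
    haveI : QuasiIso u := by
      rw [← HomologicalComplex.quasiIso_map_iff_of_preservesHomology u G, hu]
      infer_instance
    refine ⟨eM.hom ≫ (inv (DerivedCategory.Q.map u) ≫ DerivedCategory.Q.map k') ≫ eN.hom, ?_⟩
    have e1 : G.mapDerivedCategory.map (inv (DerivedCategory.Q.map u) ≫ DerivedCategory.Q.map k') =
        (fac C).hom ≫ (inv (DerivedCategory.Q.map s) ≫ DerivedCategory.Q.map k) ≫ (fac D).inv := by
      rw [Functor.map_comp, Functor.map_inv, IsIso.inv_comp_eq, map_Q_map, map_Q_map, hu, hk', Functor.map_comp,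
        Functor.map_comp]
      simp [fac]
    show G.mapDerivedCategory.map _ = h
    rw [Functor.map_comp, Functor.map_comp, e1, ← hk]
    simp [← Functor.map_comp_assoc, ← Functor.map_comp]

include hc hess in
theorem exists_of_le (K : DerivedCategory A) (b : ℤ) (hK : K.IsLE b)
    (h : ∀ n : ℤ, P ((DerivedCategory.homologyFunctor A n).obj K)) :
    ∃ M : DerivedCategory B, M.IsLE b ∧ Nonempty (G.mapDerivedCategory.obj M ≅ K) := by
  obtain ⟨K₀, _, ⟨e⟩⟩ := K.exists_iso_Q_obj_of_isLE b
  obtain ⟨C, φ, hφ, _⟩ := exists_lift_model G hc hess K₀ b (fun n =>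
    hc.iso ((DerivedCategory.homologyFunctor A n).mapIso e ≪≫ (DerivedCategory.homologyFunctorFactors A n).app K₀) (h n))
  refine ⟨DerivedCategory.Q.obj C, (DerivedCategory.isLE_Q_obj_iff _ _).2 ?_,
    ⟨G.mapDerivedCategoryFactors.app C ≪≫ asIso (DerivedCategory.Q.map φ) ≪≫ e.symm⟩⟩
  rw [CochainComplex.isLE_iff]
  intro i hi
  rw [HomologicalComplex.exactAt_iff, ← ShortComplex.exact_map_iff_of_faithful _ G]
  have hz : ((G.mapHomologicalComplex _).obj C).ExactAt i := (HomologicalComplex.exactAt_iff_isZero_homology _ _).2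
    (((HomologicalComplex.exactAt_iff_isZero_homology _ _).1 (K₀.exactAt_of_isLE b i hi)).of_iso (isoOfQuasiIsoAt φ i))
  exact (HomologicalComplex.exactAt_iff _ _).1 hz

end Groth.Agent.InjRepLib
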