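import Groth.Agent.InjRepLib.QCoh
import Mathlib.Algebra.Homology.CochainComplexOpposite
import Mathlib.Algebra.Homology.ShortComplex.ShortExact

/-!
# Bounded above complexes with homology in a class, by the dual construction
-/

set_option autoImplicit false
set_option linter.style.haveILetI false
set_option backward.isDefEq.respectTransparency false
set_option backward.isDefEq.respectTransparency.types false

universe v u

open CategoryTheory CategoryTheory.Limits Opposite HomologicalComplex

noncomputable section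

namespace Groth.Agent.InjRepLib

variable {A : Type u} [Category.{v} A] [Abelian A] (P : A → Prop)

/-- A class closed under kernels and extensions, to which epimorphisms onto members lift. -/
structure CoThick : Prop where
  zero : ∀ M : A, IsZero M → P M
  iso : ∀ {M N : A}, (M ≅ N) → P M → P N
  ker : ∀ {M N : A} (f : M ⟶ N), P M → P N → P (kernel f)
  ext : ∀ {S : ShortComplex A}, S.ShortExact → P S.X₁ → P S.X₃ → P S.X₂
  lift : ∀ (X Y : A) (π : X ⟶ Y), Epi π → P Y → ∃ (X' : A) (i : X' ⟶ X), P X' ∧ Epi (i ≫ π)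

variable {P}

theorem CoThick.thick (h : CoThick P) : Thick (fun M : Aᵒᵖ => P M.unop) (fun _ : Aᵒᵖ => True) where
  zero M hM := h.zero _ hM.unop
  zero' _ _ := trivial
  iso e hM := h.iso e.unop.symm hM
  iso' _ _ := trivial
  coker f hM hN := h.iso (kernelUnopUnop f) (h.ker f.unop hN hM)
  ext hS h1 h3 := h.ext hS.unop h3 h1
  env {E D} i _ hE := by
    obtain ⟨X', a, hX', ha⟩ := h.lift D.unop E.unop i.unop inferInstance hE
    refine ⟨op X', a.op, ?_, hX', trivial⟩
    haveI := ha
    rw [show i ≫ a.op = (a ≫ i.unop).op from rfl]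
    infer_instance

variable {K L : CochainComplex A ℤ} (φ : K ⟶ L)

theorem quasiIso_of_op (h : QuasiIso ((CochainComplex.opEquivalence A).functor.map φ.op)) : QuasiIso φ := by
  rw [quasiIso_iff]
  intro n
  obtain ⟨m, rfl⟩ : ∃ m, n = -m := ⟨-n, (neg_neg n).symm⟩
  have hm := h.quasiIsoAt m
  rw [quasiIsoAt_iff' _ (m - 1) m (m + 1) (by simp) (by simp)] at hm
  rw [quasiIsoAt_iff' _ (-(m + 1)) (-m) (-(m - 1)) (by simp <;> omega) (by simp <;> omega)]
  rw [← ShortComplex.quasiIso_opMap_iff]
  exact hm

theorem P_homology_op (h : CoThick P) (hK : ∀ n, P (K.homology n)) (m : ℤ) :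
    P (((CochainComplex.opEquivalence A).functor.obj (op K)).homology m).unop := by
  let S := K.sc' (-(m + 1)) (-m) (-(m - 1))
  let K' := (CochainComplex.opEquivalence A).functor.obj (op K)
  let e : K'.sc' (m - 1) m (m + 1) ≅ S.op := Iso.refl _
  exact h.iso (K.homologyIsoSc' (-(m + 1)) (-m) (-(m - 1)) (by simp <;> omega) (by simp <;> omega) ≪≫
    ((K'.homologyIsoSc' (m - 1) m (m + 1) (by simp) (by simp) ≪≫ ShortComplex.homologyMapIso e ≪≫
      S.homologyOpIso).unop)) (hK _)

/-- Left models of bounded above complexes. -/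
theorem exists_left_model (h : CoThick P) (K : CochainComplex A ℤ) (b : ℤ) [K.IsStrictlyLE b]
    (hK : ∀ n, P (K.homology n)) :
    ∃ (J : CochainComplex A ℤ) (φ : J ⟶ K), QuasiIso φ ∧ J.IsStrictlyLE (b + 1) ∧ ∀ n, P (J.X n) := by
  let E := CochainComplex.opEquivalence A
  let K' := E.functor.obj (op K)
  haveI : CochainComplex.IsStrictlyGE K' (-b) := by
    rw [CochainComplex.isStrictlyGE_iff]
    intro i hi
    exact (K.isZero_of_isStrictlyLE b (-i) (by omega)).op
  obtain ⟨J', φ', _, hJ, hJX⟩ := exists_injective_model h.thick K' (-b) (P_homology_op h hK)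
  let J := (E.inverse.obj J').unop
  let c : E.functor.obj (op J) ≅ J' := E.counitIso.app J'
  let φ : J ⟶ K := (E.functor.preimage (φ' ≫ c.inv)).unop
  have hφ : E.functor.map φ.op = φ' ≫ c.inv := E.functor.map_preimage _
  refine ⟨J, φ, quasiIso_of_op φ (by rw [hφ]; infer_instance), ?_, fun n => ?_⟩
  · rw [CochainComplex.isStrictlyLE_iff]
    intro i hi
    exact (J'.isZero_of_isStrictlyGE (-b - 1) (-i) (by omega)).unop
  · exact (hJX (-n)).1

end Groth.Agent.InjRepLib
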