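import Groth.Agent.InjRepLib.Build
import Groth.Agent.InjModLib.Envelope
import Groth.Prelude.Def_DCoh2
import Mathlib.Algebra.Homology.Embedding.ExtendHomology
import Mathlib.Algebra.Homology.Embedding.HomEquiv
import Mathlib.Algebra.Homology.Embedding.CochainComplex

/-!
# Injective quasi-coherent representatives
-/

set_option autoImplicit false
set_option linter.style.haveILetI false
set_option backward.isDefEq.respectTransparency false
set_option backward.isDefEq.respectTransparency.types false

universe v u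

open CategoryTheory CategoryTheory.Limits AlgebraicGeometry HomologicalComplex

noncomputable section

namespace Groth.Agent.InjRepLib

/-- Bounded below complexes are extensions of their restrictions. -/
theorem nonempty_iso_restriction_extend {A : Type u} [Category.{v} A] [Abelian A] (K : CochainComplex A ℤ) (b : ℤ)
    [K.IsStrictlyGE b] :
    Nonempty (K ≅ (K.restriction (ComplexShape.embeddingUpIntGE b)).extend (ComplexShape.embeddingUpIntGE b)) := by
  let e := ComplexShape.embeddingUpIntGE b
  have hl : e.HasLift (𝟙 (K.restriction e)) := by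
    intro j hj i' _
    by_cases h : i' < b
    · exact (K.isZero_of_isStrictlyGE b i' h).eq_of_src _ _
    · rw [ComplexShape.boundaryGE_embeddingUpIntGE_iff] at hj
      subst hj
      rw [K.shape i' _ (by simp [e]; omega), zero_comp]
  let ψ := e.liftExtend (𝟙 (K.restriction e)) hl
  haveI : ∀ n, IsIso (ψ.f n) := by
    intro n
    by_cases h : n < b
    · exact IsZero.isIso (K.isZero_of_isStrictlyGE b n h) (HomologicalComplex.isZero_extend_X _ _ n
        ((ComplexShape.notMem_range_embeddingUpIntGE_iff b n).2 h)) _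
    · have hn : e.f (n - b).toNat = n := by simp [e]; omega
      rw [show ψ.f n = _ from e.liftExtend_f (𝟙 (K.restriction e)) hl hn]
      infer_instance
  haveI : IsIso ψ := HomologicalComplex.Hom.isIso_of_components _
  exact ⟨asIso ψ⟩

/-- Resolutions of bounded below complexes with homology in a thick class. -/
theorem exists_injective_model {A : Type u} [Category.{v} A] [Abelian A] {P Q : A → Prop} (hP : Thick P Q)
    (K : CochainComplex A ℤ) (a : ℤ) [K.IsStrictlyGE a] (hK : ∀ n, P (K.homology n)) :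
    ∃ (J : CochainComplex A ℤ) (φ : K ⟶ J), QuasiIso φ ∧ J.IsStrictlyGE (a - 1) ∧
      ∀ n, P (J.X n) ∧ Q (J.X n) := by
  let e := ComplexShape.embeddingUpIntGE (a - 1)
  haveI : K.IsStrictlyGE (a - 1) := K.isStrictlyGE_of_ge (a - 1) a (by omega)
  obtain ⟨κ⟩ := nonempty_iso_restriction_extend K (a - 1)
  let K₀ := K.restriction e
  have h0 : IsZero (K₀.X 0) := K.isZero_of_isStrictlyGE a _ (by simp [e])
  have hK₀ : ∀ n, P (K₀.homology n) := fun n => hP.iso
    ((HomologicalComplex.homologyFunctor _ _ (e.f n)).mapIso κ ≪≫ K₀.extendHomologyIso e rfl) (hK _)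
  haveI := quasiIso_toJ hP K₀ h0 hK₀
  let J₀ := J hP K₀ h0 hK₀
  haveI hq : QuasiIso (extendMap (toJ hP K₀ h0 hK₀) e) := (quasiIso_extendMap_iff _ _).2 inferInstance
  refine ⟨J₀.extend e, κ.hom ≫ extendMap (toJ hP K₀ h0 hK₀) e, inferInstance,
    ⟨fun i hi => J₀.isZero_extend_X e i hi⟩, fun n => ?_⟩
  by_cases h : n < a - 1
  · have hz := J₀.isZero_extend_X e n ((ComplexShape.notMem_range_embeddingUpIntGE_iff _ n).2 h)
    exact ⟨hP.zero _ hz, hP.zero' _ hz⟩
  · let i := J₀.extendXIso e (i := (n - (a - 1)).toNat) (i' := n) (by simp [e]; omega)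
    exact ⟨hP.iso i.symm (P_J hP K₀ h0 hK₀ _), hP.iso' i.symm (Q_J hP K₀ h0 hK₀ _)⟩

theorem thick_isQCoh (X : Scheme.{u}) [IsLocallyNoetherian X] :
    Thick (fun M : X.Modules => Coh.IsQCoh M) (fun M => Injective M) where
  zero M hM :=
    haveI := QCohLib.isQCoh_unit (X := X)
    haveI := QCohLib.isQCoh_kernel (𝟙 (Coh.structureModule X))
    QCohLib.isQCoh_of_iso (kernel.ofMono (𝟙 (Coh.structureModule X)) ≪≫ hM.isoZero.symm)
  iso e h := haveI := h; QCohLib.isQCoh_of_iso e
  coker f hM hN := haveI := hM; haveI := hN; QCohLib.isQCoh_cokernel f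
  ext hS h1 h3 := haveI := h1; haveI := h3; QCohLib.isQCoh_of_shortExact hS
  zero' M hM := hM.injective
  iso' e h := Injective.of_iso e h
  env {E D} i _ hE := by
    haveI : Coh.IsQCoh E := hE
    obtain ⟨J, m, hm, hJ, hJi⟩ := InjModLib.exists_injective_qcoh_envelope E
    haveI := hJi
    exact ⟨J, Injective.factorThru m i, by rw [Injective.comp_factorThru]; exact hm, hJ, hJi⟩

attribute [local instance] HasDerivedCategory.standard

/-- Objects of `D⁺_QCoh` have injective quasi-coherent models. -/
theorem exists_qcoh_injective_model {X : Scheme.{u}} [IsLocallyNoetherian X] (L : DCoh.D X)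
    (hL : DCoh.IsQCohD L) (c : ℤ) (hc : ∀ i, i < c → IsZero (DCoh.HD L i)) :
    ∃ J : CochainComplex X.Modules ℤ, J.IsStrictlyGE (c - 1) ∧
      (∀ n, Coh.IsQCoh (J.X n) ∧ Injective (J.X n)) ∧ Nonempty (DCoh.toD X J ≅ L) := by
  haveI : L.IsGE c := (DerivedCategory.isGE_iff L c).2 hc
  obtain ⟨K, _, ⟨eK⟩⟩ := L.exists_iso_Q_obj_of_isGE c
  have hKq : ∀ n, Coh.IsQCoh (K.homology n) := fun n =>
    haveI := hL n
    QCohLib.isQCoh_of_iso ((DerivedCategory.homologyFunctor _ n).mapIso eK ≪≫
      (DerivedCategory.homologyFunctorFactors _ n).app K)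
  obtain ⟨J, φ, _, hJ, hJX⟩ := exists_injective_model (thick_isQCoh X) K c hKq
  exact ⟨J, hJ, hJX, ⟨(asIso (DerivedCategory.Q.map φ)).symm ≪≫ eK.symm⟩⟩

end Groth.Agent.InjRepLib
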