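import Mathlib.Algebra.Homology.DerivedCategory.KInjective

/-!
# Maps into K-injective complexes in the derived category
-/

set_option autoImplicit false

universe w v u

open CategoryTheory

noncomputable section

namespace DerLibQ

variable {A : Type u} [Category.{v} A] [Abelian A] [HasDerivedCategory.{w} A]

theorem exists_Q_map_eq {C D : CochainComplex A ℤ} [D.IsKInjective]
    (a : DerivedCategory.Q.obj C ⟶ DerivedCategory.Q.obj D) : ∃ f : C ⟶ D, DerivedCategory.Q.map f = a := by
  let ε := DerivedCategory.quotientCompQhIso A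
  obtain ⟨g, hg⟩ := (CochainComplex.IsKInjective.Qh_map_bijective ((HomotopyCategory.quotient _ _).obj C) D).2
    (ε.hom.app C ≫ a ≫ ε.inv.app D)
  obtain ⟨f, rfl⟩ := (HomotopyCategory.quotient _ _).map_surjective g
  refine ⟨f, ?_⟩
  have h := ε.hom.naturality f
  rw [← cancel_epi (ε.hom.app _), ← h]
  refine (congrArg (· ≫ ε.hom.app D) hg).trans ?_
  simp

theorem homotopyOfQ {C D : CochainComplex A ℤ} [D.IsKInjective] {f g : C ⟶ D}
    (h : DerivedCategory.Q.map f = DerivedCategory.Q.map g) : Nonempty (Homotopy f g) := by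
  let ε := DerivedCategory.quotientCompQhIso A
  refine ⟨HomotopyCategory.homotopyOfEq f g
    ((CochainComplex.IsKInjective.Qh_map_bijective ((HomotopyCategory.quotient _ _).obj C) D).1 ?_)⟩
  have hf := ε.hom.naturality f
  have hg := ε.hom.naturality g
  rw [h, ← hg] at hf
  exact (cancel_mono (ε.hom.app D)).1 hf

end DerLibQ
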