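import Mathlib.CategoryTheory.Abelian.Refinements
import Mathlib.CategoryTheory.Preadditive.Injective.Basic
import Mathlib.Algebra.Homology.Refinements
import Mathlib.Algebra.Homology.QuasiIso
import Mathlib.Algebra.Homology.ShortComplex.ShortExact

/-!
# Resolutions of bounded below complexes by injective objects of a thick subcategory
-/

set_option autoImplicit false
set_option linter.style.haveILetI false

universe v u

open CategoryTheory CategoryTheory.Limits

noncomputable section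

namespace Groth.Agent.InjRepLib

variable {A : Type u} [Category.{v} A] [Abelian A] (P Q : A → Prop)

/-- A class `P` closed under cokernels and extensions, whose members embed compatibly into members with `Q`. -/
structure Thick : Prop where
  zero : ∀ M : A, IsZero M → P M
  zero' : ∀ M : A, IsZero M → Q M
  iso : ∀ {M N : A}, (M ≅ N) → P M → P N
  iso' : ∀ {M N : A}, (M ≅ N) → Q M → Q N
  coker : ∀ {M N : A} (f : M ⟶ N), P M → P N → P (cokernel f)
  ext : ∀ {S : ShortComplex A}, S.ShortExact → P S.X₁ → P S.X₃ → P S.X₂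
  env : ∀ {E D : A} (i : E ⟶ D) [Mono i], P E → ∃ (J : A) (h : D ⟶ J), Mono (i ≫ h) ∧ P J ∧ Q J

/-- The data reached in one degree: the cokernel of the last differential and the comparison map into it. -/
structure Stage {A₀ A₁ : A} (d : A₀ ⟶ A₁) where
  C : A
  γ : A₀ ⟶ C
  hC : P C
  hR : P (cokernel (kernel.ι d ≫ γ))

/-- The next term. -/
structure Out (S : ShortComplex A) (s : Stage P S.f) where
  J : A
  hP : P J
  inj : Q J
  u : s.C ⟶ J
  g : S.X₂ ⟶ J
  comm : s.γ ≫ u = S.f ≫ g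
  lift : ∀ {T : A} (c : T ⟶ s.C), c ≫ u = 0 →
    ∃ (T' : A) (π : T' ⟶ T) (_ : Epi π) (k : T' ⟶ S.X₁), k ≫ S.f = 0 ∧ π ≫ c = k ≫ s.γ
  mono : ∀ {T : A} (z : T ⟶ S.X₂), z ≫ S.g = 0 → ∀ c : T ⟶ s.C, z ≫ g = c ≫ u →
    ∃ (T' : A) (π : T' ⟶ T) (_ : Epi π) (x : T' ⟶ S.X₁), π ≫ z = x ≫ S.f

variable {P Q}

theorem nonempty_out (hP : Thick P Q) (S : ShortComplex A) (s : Stage P S.f) (hH : P S.homology) :
    Nonempty (Out P Q S s) := by
  let a : S.X₁ ⟶ s.C ⊞ S.X₂ := biprod.lift s.γ (-S.f)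
  let D := cokernel a
  let inl : s.C ⟶ D := biprod.inl ≫ cokernel.π a
  let inr : S.X₂ ⟶ D := biprod.inr ≫ cokernel.π a
  have hrel : s.γ ≫ inl = S.f ≫ inr := by
    have h := cokernel.condition a
    simp only [a, biprod.lift_eq, Preadditive.neg_comp, Preadditive.add_comp, add_neg_eq_zero] at h
    exact (Category.assoc _ _ _).symm.trans (h.trans (Category.assoc _ _ _))
  have hzero : ∀ {T : A} (c : T ⟶ s.C) (x : T ⟶ S.X₂), c ≫ inl + x ≫ inr = 0 →
      ∃ (T' : A) (π : T' ⟶ T) (_ : Epi π) (k : T' ⟶ S.X₁), π ≫ c = k ≫ s.γ ∧ π ≫ x = -(k ≫ S.f) := by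
    intro T c x h
    have h' : biprod.lift c x ≫ cokernel.π a = 0 := by
      rw [biprod.lift_eq, Preadditive.add_comp, Category.assoc, Category.assoc]
      exact h
    obtain ⟨T', π, hπ, k, hk⟩ :=
      (CokernelCofork.IsColimit.comp_π_eq_zero_iff_up_to_refinements (cokernelIsCokernel a) _).1 h'
    refine ⟨T', π, hπ, k, ?_, ?_⟩
    · simpa [a] using hk =≫ biprod.fst
    · simpa [a] using hk =≫ biprod.snd
  let q : D ⟶ S.X₃ := cokernel.desc a (biprod.desc 0 S.g) (by simp [a])
  have hq1 : inl ≫ q = 0 := by simp [inl, q]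
  have hq2 : inr ≫ q = S.g := by simp [inr, q]
  let r : D ⟶ cokernel S.f := cokernel.desc a (biprod.desc 0 (cokernel.π S.f)) (by simp [a])
  have hr1 : inl ≫ r = 0 := by simp [inl, r]
  have hr2 : inr ≫ r = cokernel.π S.f := by simp [inr, r]
  let f : cokernel S.f ⟶ S.X₃ := cokernel.desc S.f S.g S.zero
  have hrf : r ≫ f = q := by
    refine coequalizer.hom_ext ?_
    ext <;> simp [r, f, q]
  let R := cokernel (kernel.ι S.f ≫ s.γ)
  have hRinl : (kernel.ι S.f ≫ s.γ) ≫ inl = 0 := by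
    rw [Category.assoc, hrel, kernel.condition_assoc, zero_comp]
  let ρ : R ⟶ D := cokernel.desc _ inl hRinl
  have hρq : ρ ≫ q = 0 := by
    refine coequalizer.hom_ext ?_
    simp [ρ, hq1]
  let i : R ⟶ kernel q := kernel.lift q ρ hρq
  let p : kernel q ⟶ kernel f := kernel.lift f (kernel.ι q ≫ r) (by rw [Category.assoc, hrf, kernel.condition])
  have hip : i ≫ p = 0 := by
    rw [← cancel_mono (kernel.ι f)]
    refine coequalizer.hom_ext ?_
    simp [i, p, ρ, hr1]
  haveI hρmono : Mono ρ := by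
    refine Preadditive.mono_of_cancel_zero _ fun {T} t ht => ?_
    obtain ⟨T₁, π₁, _, c, hc⟩ := surjective_up_to_refinements_of_epi (cokernel.π (kernel.ι S.f ≫ s.γ)) t
    have h0 : c ≫ inl = 0 := by
      have := congrArg (· ≫ ρ) hc
      simpa [ρ, ht] using this.symm
    obtain ⟨T₂, π₂, _, k, hk₁, hk₂⟩ := hzero c (0 : T₁ ⟶ S.X₂) (by simp [h0])
    rw [comp_zero, eq_comm, neg_eq_zero] at hk₂
    rw [← cancel_epi π₁, ← cancel_epi π₂, hc, ← Category.assoc, hk₁]
    rw [Category.assoc, comp_zero, comp_zero]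
    exact (kernel.lift_ι_assoc S.f k hk₂ _).symm.trans ((congrArg (_ ≫ ·) ((Category.assoc _ _ _).symm.trans (cokernel.condition _))).trans comp_zero)
  haveI : Mono i := by
    haveI : Mono (i ≫ kernel.ι q) := by rw [kernel.lift_ι]; infer_instance
    exact mono_of_mono i (kernel.ι q)
  haveI : Epi p := by
    rw [epi_iff_surjective_up_to_refinements]
    intro T y
    obtain ⟨T', π, hπ, x, hx⟩ := surjective_up_to_refinements_of_epi (cokernel.π S.f) (y ≫ kernel.ι f)
    have hxq : (x ≫ inr) ≫ q = 0 := by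
      rw [Category.assoc, hq2, show S.g = cokernel.π S.f ≫ f from (cokernel.π_desc _ _ _).symm, ← Category.assoc,
        ← hx]
      simp
    refine ⟨T', π, hπ, kernel.lift q (x ≫ inr) hxq, ?_⟩
    rw [← cancel_mono (kernel.ι f)]
    simp [p, hr2, hx]
  have hex : (ShortComplex.mk i p hip).Exact := by
    rw [ShortComplex.exact_iff_exact_up_to_refinements]
    intro T t ht
    have ht' : t ≫ p = 0 := ht
    obtain ⟨T₁, π₁, _, y, hy⟩ := surjective_up_to_refinements_of_epi (cokernel.π a) (t ≫ kernel.ι q)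
    have hy' : π₁ ≫ t ≫ kernel.ι q = (y ≫ biprod.fst) ≫ inl + (y ≫ biprod.snd) ≫ inr := by
      rw [hy]
      simp only [inl, inr, Category.assoc]
      rw [← Preadditive.comp_add, ← Category.assoc biprod.fst, ← Category.assoc biprod.snd, ← Preadditive.add_comp,
        biprod.total, Category.id_comp]
    have hx : (y ≫ biprod.snd) ≫ cokernel.π S.f = 0 := by
      have h1 : π₁ ≫ (t ≫ p) ≫ kernel.ι f = (y ≫ biprod.snd) ≫ cokernel.π S.f := by
        have h2 := congrArg (· ≫ r) hy'
        simp only [Category.assoc, Preadditive.add_comp, hr1, hr2, comp_zero, zero_add] at h2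
        simp only [Category.assoc, p, kernel.lift_ι]
        exact h2
      rw [← h1, ht', zero_comp, comp_zero]
    obtain ⟨T₂, π₂, _, k, hk⟩ :=
      (CokernelCofork.IsColimit.comp_π_eq_zero_iff_up_to_refinements (cokernelIsCokernel S.f) _).1 hx
    refine ⟨T₂, π₂ ≫ π₁, inferInstance, (π₂ ≫ y ≫ biprod.fst + k ≫ s.γ) ≫ cokernel.π _, ?_⟩
    rw [← cancel_mono (kernel.ι q)]
    simp only [Category.assoc, hy', i, kernel.lift_ι, ρ, cokernel.π_desc, Preadditive.comp_add, Preadditive.add_comp]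
    congr 1
    rw [hrel, ← Category.assoc π₂, ← Category.assoc (π₂ ≫ _)]
    simp only [Category.assoc] at hk ⊢
    rw [reassoc_of% hk]
  have hPE : P (kernel q) := hP.ext (S := ShortComplex.mk i p hip) { exact := hex, mono_f := inferInstance, epi_g := inferInstance }
    s.hR (hP.iso S.homologyIsoKernelDesc hH)
  obtain ⟨J, h, he, hJP, hJ⟩ := hP.env (kernel.ι q) hPE
  have hinjE : ∀ {T : A} (t : T ⟶ D), t ≫ q = 0 → t ≫ h = 0 → t = 0 := fun t htq hth => by
    have : kernel.lift q t htq ≫ kernel.ι q ≫ h = 0 := by rw [kernel.lift_ι_assoc, hth]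
    rw [← kernel.lift_ι q t htq, (cancel_mono (kernel.ι q ≫ h)).1 (this.trans zero_comp.symm), zero_comp]
  refine ⟨{ J := J, hP := hJP, inj := hJ, u := inl ≫ h, g := inr ≫ h,
            comm := by rw [reassoc_of% hrel], lift := ?_, mono := ?_ }⟩
  · intro T c hc
    have h0 : c ≫ inl = 0 := hinjE _ (by rw [Category.assoc, hq1, comp_zero]) (by rw [Category.assoc]; exact hc)
    obtain ⟨T', π, hπ, k, hk₁, hk₂⟩ := hzero c (0 : T ⟶ S.X₂) (by simp [h0])
    rw [comp_zero, eq_comm, neg_eq_zero] at hk₂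
    exact ⟨T', π, hπ, k, hk₂, hk₁⟩
  · intro T z hz c hc
    have h0 : (-c) ≫ inl + z ≫ inr = 0 := hinjE _ (by simp [hq1, hq2, hz]) (by
      simp only [Preadditive.add_comp, Category.assoc, Preadditive.neg_comp]
      rw [hc, neg_add_cancel])
    obtain ⟨T', π, hπ, k, -, hk₂⟩ := hzero _ _ h0
    exact ⟨T', π, hπ, -k, by rw [hk₂, Preadditive.neg_comp]⟩

/-- The stage after an output. -/
theorem nonempty_next (hP : Thick P Q) (S : ShortComplex A) (s : Stage P S.f) (o : Out P Q S s) (hH : P S.homology) :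
    P (cokernel (kernel.ι S.g ≫ o.g ≫ cokernel.π o.u)) := by
  let ℓ := kernel.lift S.g S.f S.zero
  have hl : ℓ ≫ kernel.ι S.g ≫ o.g ≫ cokernel.π o.u = 0 := by
    rw [kernel.lift_ι_assoc, ← reassoc_of% o.comm, cokernel.condition, comp_zero]
  let σ := cokernel.desc ℓ _ hl
  have hσ : P (cokernel σ) := hP.coker σ (hP.iso S.homologyIsoCokernelLift hH) (hP.coker o.u s.hC o.hP)
  refine hP.iso ((cokernelEpiComp (cokernel.π ℓ) σ).symm ≪≫ cokernelIsoOfEq ?_) hσ
  exact cokernel.π_desc _ _ _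

end Groth.Agent.InjRepLib
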